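import Mathlib
import Cfsg.Prelude.Def_Characters

/-!
# Eigenspaces of linear characters of subgroups in a complex representation (helper39)
-/

set_option autoImplicit false
set_option linter.unusedSectionVars false

namespace Cfsg.Agent.Lib.Helper39.SLmin

open Cfsg Module

section eig

variable {G Γ : Type*} [Group G] [Group Γ] [Fintype Γ] {V : Type*} [AddCommGroup V] [Module ℂ V]
  [FiniteDimensional ℂ V]

/-- the `μ`-eigenspace of `Γ` acting through `j`. -/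
def eig (ρ : Representation ℂ G V) (j : Γ →* G) (μ : Γ →* ℂ) : Submodule ℂ V where
  carrier := {y | ∀ γ, ρ (j γ) y = μ γ • y}
  add_mem' := by
    intro a b ha hb γ
    rw [map_add, ha γ, hb γ, smul_add]
  zero_mem' := by
    intro γ
    simp
  smul_mem' := by
    intro c a ha γ
    rw [map_smul, ha γ, smul_comm]

theorem mem_eig {ρ : Representation ℂ G V} {j : Γ →* G} {μ : Γ →* ℂ} {y : V} :
    y ∈ eig ρ j μ ↔ ∀ γ, ρ (j γ) y = μ γ • y := Iff.rfl

/-- the projector onto the eigenspace. -/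
noncomputable def prj (ρ : Representation ℂ G V) (j : Γ →* G) (μ : Γ →* ℂ) : V →ₗ[ℂ] V :=
  (Fintype.card Γ : ℂ)⁻¹ • ∑ γ : Γ, μ γ⁻¹ • ρ (j γ)

theorem mu_inv_mul (μ : Γ →* ℂ) (γ : Γ) : μ γ⁻¹ * μ γ = 1 := by
  rw [← map_mul, inv_mul_cancel, map_one]

theorem isProj_prj (ρ : Representation ℂ G V) (j : Γ →* G) (μ : Γ →* ℂ) :
    LinearMap.IsProj (eig ρ j μ) (prj ρ j μ) := by
  have hc : (Fintype.card Γ : ℂ) ≠ 0 := by exact_mod_cast Fintype.card_ne_zero
  constructor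
  · intro y γ
    unfold prj
    simp only [LinearMap.smul_apply, LinearMap.sum_apply, map_smul, map_sum, Finset.smul_sum]
    rw [← Equiv.sum_comp (Equiv.mulLeft γ⁻¹)]
    apply Finset.sum_congr rfl
    intro δ _
    simp only [Equiv.coe_mulLeft]
    rw [← Module.End.mul_apply, ← map_mul, ← map_mul, mul_inv_cancel_left, smul_comm (μ γ),
      smul_smul (μ γ)]
    congr 2
    rw [mul_inv_rev, inv_inv, map_mul, mul_comm (μ δ⁻¹)]
  · intro y hy
    unfold prj
    simp only [LinearMap.smul_apply, LinearMap.sum_apply]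
    have : ∀ γ : Γ, μ γ⁻¹ • ρ (j γ) y = y := by
      intro γ
      rw [hy γ, smul_smul, mu_inv_mul, one_smul]
    simp only [this, Finset.sum_const, Finset.card_univ]
    rw [← Nat.cast_smul_eq_nsmul ℂ, smul_smul, inv_mul_cancel₀ hc, one_smul]

theorem trace_comp_prj (ρ : Representation ℂ G V) (j : Γ →* G) (μ : Γ →* ℂ) (u : G) :
    LinearMap.trace ℂ V (ρ u ∘ₗ prj ρ j μ)
      = (Fintype.card Γ : ℂ)⁻¹ * ∑ γ : Γ, μ γ⁻¹ * ρ.character (u * j γ) := by
  unfold prj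
  rw [LinearMap.comp_smul, map_smul, smul_eq_mul]
  congr 1
  have : ρ u ∘ₗ ∑ γ : Γ, μ γ⁻¹ • ρ (j γ) = ∑ γ : Γ, μ γ⁻¹ • ρ (u * j γ) := by
    ext y
    simp only [LinearMap.comp_apply, LinearMap.sum_apply, LinearMap.smul_apply, map_sum, map_smul,
      map_mul, Module.End.mul_apply]
  rw [this, map_sum]
  apply Finset.sum_congr rfl
  intro γ _
  rw [map_smul, smul_eq_mul]
  rfl

theorem finrank_eig (ρ : Representation ℂ G V) (j : Γ →* G) (μ : Γ →* ℂ) :
    (finrank ℂ (eig ρ j μ) : ℂ)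
      = (Fintype.card Γ : ℂ)⁻¹ * ∑ γ : Γ, μ γ⁻¹ * ρ.character (j γ) := by
  have h1 := (isProj_prj ρ j μ).trace
  have h2 := trace_comp_prj ρ j μ 1
  rw [map_one] at h2
  simp only [one_mul] at h2
  rw [← h2, ← h1]
  rfl

/-- if `u` fixes the eigenspace pointwise, the twisted sum over `u * j γ` is the untwisted one. -/
theorem sum_of_fix (ρ : Representation ℂ G V) (j : Γ →* G) (μ : Γ →* ℂ) (u : G)
    (hu : ∀ y ∈ eig ρ j μ, ρ u y = y) :
    ∑ γ : Γ, μ γ⁻¹ * ρ.character (u * j γ) = ∑ γ : Γ, μ γ⁻¹ * ρ.character (j γ) := by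
  have hc : (Fintype.card Γ : ℂ) ≠ 0 := by exact_mod_cast Fintype.card_ne_zero
  have h1 : ρ u ∘ₗ prj ρ j μ = ρ 1 ∘ₗ prj ρ j μ := by
    ext y
    simp only [LinearMap.comp_apply, map_one, Module.End.one_apply]
    exact hu _ ((isProj_prj ρ j μ).map_mem y)
  have h2 := trace_comp_prj ρ j μ u
  rw [h1, trace_comp_prj] at h2
  simp only [one_mul] at h2
  exact (mul_left_cancel₀ (inv_ne_zero hc) h2).symm

/-- elements normalising `(j, μ)` preserve the eigenspace. -/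
theorem map_eig (ρ : Representation ℂ G V) (j : Γ →* G) (μ : Γ →* ℂ) (g : G)
    (hg : ∀ γ, ∃ γ', g⁻¹ * j γ * g = j γ' ∧ μ γ' = μ γ) {y : V} (hy : y ∈ eig ρ j μ) :
    ρ g y ∈ eig ρ j μ := by
  intro γ
  obtain ⟨γ', h1, h2⟩ := hg γ
  have h3 : j γ * g = g * j γ' := by
    rw [← h1]
    group
  rw [← Module.End.mul_apply, ← map_mul, h3, map_mul, Module.End.mul_apply, hy γ', map_smul, h2]

theorem comm_fix (ρ : Representation ℂ G V) {x : V} (hx : x ≠ 0) {l u : G} {κ α : ℂ}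
    (hl : ρ l x = κ • x) (hu : ρ u x = α • x) : ρ (u⁻¹ * l * u * l⁻¹) x = x := by
  have inv_of : ∀ (g : G) (c : ℂ), ρ g x = c • x → c ≠ 0 ∧ ρ g⁻¹ x = c⁻¹ • x := by
    intro g c hg
    have h0 : ρ g⁻¹ (ρ g x) = x := by
      rw [← Module.End.mul_apply, ← map_mul, inv_mul_cancel, map_one, Module.End.one_apply]
    have hc : c ≠ 0 := by
      rintro rfl
      rw [hg, zero_smul, map_zero] at h0
      exact hx h0.symm
    refine ⟨hc, ?_⟩
    rw [hg, map_smul] at h0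
    conv_rhs => rw [← h0]
    rw [smul_smul, inv_mul_cancel₀ hc, one_smul]
  obtain ⟨hκ, hl'⟩ := inv_of l κ hl
  obtain ⟨hα, hu'⟩ := inv_of u α hu
  rw [map_mul, map_mul, map_mul]
  simp only [Module.End.mul_apply]
  simp only [hl', map_smul, hu, hl, hu']
  simp only [smul_smul]
  have : κ⁻¹ * (α * (κ * α⁻¹)) = 1 := by field_simp
  rw [this, one_smul]

/-- a one-dimensional eigenspace: a spanning vector on which all normalising elements act by
scalars. -/
theorem exists_line (ρ : Representation ℂ G V) (j : Γ →* G) (μ : Γ →* ℂ)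
    (h1 : finrank ℂ (eig ρ j μ) = 1) :
    ∃ x : V, x ≠ 0 ∧ x ∈ eig ρ j μ ∧ (∀ y ∈ eig ρ j μ, ∃ c : ℂ, y = c • x) ∧
      ∀ g : G, (∀ γ, ∃ γ', g⁻¹ * j γ * g = j γ' ∧ μ γ' = μ γ) → ∃ κ : ℂ, ρ g x = κ • x := by
  obtain ⟨⟨x, hx⟩, hx0, hsp⟩ := finrank_eq_one_iff'.1 h1
  have hsp' : ∀ y ∈ eig ρ j μ, ∃ c : ℂ, y = c • x := by
    intro y hy
    obtain ⟨c, hc⟩ := hsp ⟨y, hy⟩
    exact ⟨c, by simpa using (congrArg Subtype.val hc).symm⟩
  refine ⟨x, fun h => hx0 (Subtype.ext h), hx, hsp', ?_⟩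
  intro g hg
  exact hsp' _ (map_eig ρ j μ g hg hx)

end eig

section fix

variable {G : Type*} [Group G] [Fintype G]

/-- dimensions of fixed spaces of subgroups. -/
theorem exists_fix {χ : G → ℂ} (hχ : IsCharacter G χ) :
    ∃ fix : Subgroup G → ℕ, (∀ A B : Subgroup G, A ≤ B → fix B ≤ fix A) ∧
      ∀ (A : Subgroup G) [Fintype A], (fix A : ℂ) * Fintype.card A = ∑ g : A, χ g := by
  classical
  obtain ⟨n, ρ, rfl⟩ := hχ
  refine ⟨fun A => finrank ℂ (eig ρ A.subtype 1), ?_, ?_⟩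
  · intro A B hAB
    apply Submodule.finrank_mono
    intro y hy γ
    exact hy ⟨γ.1, hAB γ.2⟩
  · intro A _
    have hc : (Fintype.card A : ℂ) ≠ 0 := by exact_mod_cast Fintype.card_ne_zero
    have := finrank_eig ρ A.subtype 1
    simp only [MonoidHom.one_apply, one_mul, Subgroup.coe_subtype] at this
    rw [this]
    have e : (Fintype.card A : ℂ) = ((Fintype.card ↥A : ℕ) : ℂ) := rfl
    field_simp

end fix

end Cfsg.Agent.Lib.Helper39.SLmin
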