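import Mathlib

/-!
# Transvections `1 + v ⊗ φ` in `SL_n(F)` (helper39)
-/

set_option autoImplicit false
set_option linter.unusedSectionVars false

namespace Cfsg.Agent.Lib.Helper39.SLmin

open Matrix

variable {F : Type*} [Field F] {ι : Type*} [Fintype ι] [DecidableEq ι]

theorem det_one_add_vmv (v φ : ι → F) : (1 + vecMulVec v φ).det = 1 + φ ⬝ᵥ v := by
  rw [vecMulVec_eq Unit, det_one_add_replicateCol_mul_replicateRow]

theorem sl_ext {A B : Matrix.SpecialLinearGroup ι F} (h : (A : Matrix ι ι F) = B) : A = B :=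
  Subtype.ext h

theorem sl_coe_congr {A B : Matrix.SpecialLinearGroup ι F} (h : A = B) : (A : Matrix ι ι F) = B := by
  rw [h]

/-- auxiliary: the transvection with a proof. -/
def tv0 (v φ : ι → F) (h : φ ⬝ᵥ v = 0) : Matrix.SpecialLinearGroup ι F :=
  ⟨1 + vecMulVec v φ, by rw [det_one_add_vmv, h, add_zero]⟩

open Classical in
/-- the transvection `1 + v ⊗ φ` (equal to `1` if `φ v ≠ 0`). -/
noncomputable def tv (v φ : ι → F) : Matrix.SpecialLinearGroup ι F :=
  if h : φ ⬝ᵥ v = 0 then tv0 v φ h else 1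

theorem tv_coe {v φ : ι → F} (h : φ ⬝ᵥ v = 0) : (tv v φ : Matrix ι ι F) = 1 + vecMulVec v φ := by
  unfold tv
  rw [dif_pos h]
  rfl

theorem tv_zero_right (v : ι → F) : tv v (0 : ι → F) = 1 := by
  apply sl_ext
  rw [tv_coe (by simp)]
  simp

theorem tv_zero_left (φ : ι → F) : tv (0 : ι → F) φ = 1 := by
  apply sl_ext
  rw [tv_coe (by simp)]
  simp

theorem tv_mul_right {v φ φ' : ι → F} (h : φ ⬝ᵥ v = 0) (h' : φ' ⬝ᵥ v = 0) :
    tv v φ * tv v φ' = tv v (φ + φ') := by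
  apply sl_ext
  rw [Matrix.SpecialLinearGroup.coe_mul, tv_coe h, tv_coe h', tv_coe (by rw [add_dotProduct, h, h', add_zero])]
  rw [add_mul, mul_add, mul_add, vecMulVec_mul_vecMulVec, h, zero_smul, vecMulVec_zero, vecMulVec_add]
  simp only [one_mul, mul_one, add_zero]
  abel

theorem tv_mul_left {v v' φ : ι → F} (h : φ ⬝ᵥ v = 0) (h' : φ ⬝ᵥ v' = 0) :
    tv v φ * tv v' φ = tv (v + v') φ := by
  apply sl_ext
  rw [Matrix.SpecialLinearGroup.coe_mul, tv_coe h, tv_coe h', tv_coe (by rw [dotProduct_add, h, h', add_zero])]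
  rw [add_mul, mul_add, mul_add, vecMulVec_mul_vecMulVec, h', zero_smul, vecMulVec_zero, add_vecMulVec]
  simp only [one_mul, mul_one, add_zero]
  abel

theorem tv_inv {v φ : ι → F} (h : φ ⬝ᵥ v = 0) : (tv v φ)⁻¹ = tv v (-φ) := by
  rw [inv_eq_iff_mul_eq_one, tv_mul_right h (by rw [neg_dotProduct, h, neg_zero]), add_neg_cancel,
    tv_zero_right]

theorem tv_smul (c : F) (v φ : ι → F) : tv (c • v) φ = tv v (c • φ) := by
  by_cases h : φ ⬝ᵥ v = 0
  · apply sl_ext
    rw [tv_coe (by rw [dotProduct_smul, h, smul_zero]), tv_coe (by rw [smul_dotProduct, h, smul_zero]),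
      smul_vecMulVec, vecMulVec_smul]
  · by_cases hc : c = 0
    · subst hc
      rw [zero_smul, zero_smul, tv_zero_left, tv_zero_right]
    · unfold tv
      rw [dif_neg, dif_neg]
      · rw [smul_dotProduct]
        exact smul_ne_zero hc h
      · rw [dotProduct_smul]
        exact smul_ne_zero hc h

theorem conj_tv (g g' : Matrix.SpecialLinearGroup ι F) (hg : g * g' = 1) {v φ : ι → F} (h : φ ⬝ᵥ v = 0) :
    g * tv v φ * g' = tv ((g : Matrix ι ι F) *ᵥ v) (φ ᵥ* (g' : Matrix ι ι F)) := by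
  have hg' : (g' : Matrix ι ι F) * (g : Matrix ι ι F) = 1 := by
    have : g' * g = 1 := by
      rw [mul_eq_one_iff_eq_inv] at hg
      rw [hg, mul_inv_cancel]
    have := sl_coe_congr this
    rwa [Matrix.SpecialLinearGroup.coe_mul, Matrix.SpecialLinearGroup.coe_one] at this
  have hg1 : (g : Matrix ι ι F) * (g' : Matrix ι ι F) = 1 := by
    have := sl_coe_congr hg
    rwa [Matrix.SpecialLinearGroup.coe_mul, Matrix.SpecialLinearGroup.coe_one] at this
  have h2 : (φ ᵥ* (g' : Matrix ι ι F)) ⬝ᵥ ((g : Matrix ι ι F) *ᵥ v) = 0 := by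
    rw [dotProduct_mulVec, vecMul_vecMul, hg', vecMul_one, h]
  apply sl_ext
  rw [Matrix.SpecialLinearGroup.coe_mul, Matrix.SpecialLinearGroup.coe_mul, tv_coe h, tv_coe h2, mul_add, add_mul,
    mul_one, hg1, mul_vecMulVec, vecMulVec_mul]

theorem tv_mulVec {v φ : ι → F} (h : φ ⬝ᵥ v = 0) (w : ι → F) :
    (tv v φ : Matrix ι ι F) *ᵥ w = w + (φ ⬝ᵥ w) • v := by
  rw [tv_coe h, add_mulVec, one_mulVec, vecMulVec_mulVec]
  ext i
  simp [mul_comm]

theorem vecMul_tv {v φ : ι → F} (h : φ ⬝ᵥ v = 0) (η : ι → F) :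
    η ᵥ* (tv v φ : Matrix ι ι F) = η + (η ⬝ᵥ v) • φ := by
  rw [tv_coe h, vecMul_add, vecMul_one, vecMul_vecMulVec]

theorem tv_eq_one_iff {v φ : ι → F} (h : φ ⬝ᵥ v = 0) : tv v φ = 1 ↔ v = 0 ∨ φ = 0 := by
  constructor
  · intro h1
    have h2 := sl_coe_congr h1
    rw [tv_coe h, Matrix.SpecialLinearGroup.coe_one, add_eq_left] at h2
    exact vecMulVec_eq_zero.1 h2
  · rintro (rfl | rfl)
    · exact tv_zero_left _
    · exact tv_zero_right _

/-- the standard basis vector. -/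
def ee (i : ι) : ι → F := Pi.single i 1

theorem ee_apply (i k : ι) : (ee i : ι → F) k = if k = i then 1 else 0 := by
  unfold ee
  rw [Pi.single_apply]

theorem dot_ee (φ : ι → F) (i : ι) : φ ⬝ᵥ ee i = φ i := by
  unfold ee
  simp

theorem ee_dot (φ : ι → F) (i : ι) : ee i ⬝ᵥ φ = φ i := by
  unfold ee
  simp

theorem ee_ne_zero (i : ι) : (ee i : ι → F) ≠ 0 := by
  intro h
  have := congrFun h i
  rw [ee_apply, if_pos rfl] at this
  exact one_ne_zero this

end Cfsg.Agent.Lib.Helper39.SLmin
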